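import Mathlib

/-! Extraspecial subgroups of order 27 and exponent 3 in dimension three: standard form. -/

set_option autoImplicit false

namespace CfsgLib.Heis27

open Matrix

variable {F : Type*} [Field F]

/-- Projection of `w` on the `c`-eigenvector attached to a matrix with `x ^ k = c ^ k`. -/
def proj {n : ℕ} (x : Matrix (Fin n) (Fin n) F) (k : ℕ) (c : F) (w : Fin n → F) : Fin n → F :=
  (k : F)⁻¹ • ∑ j ∈ Finset.range k, (c⁻¹) ^ j • (x ^ j) *ᵥ w

theorem mulVec_proj {n : ℕ} {x : Matrix (Fin n) (Fin n) F} {k : ℕ} {c : F} (hc : c ≠ 0)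
    (hx : x ^ k = (c ^ k) • (1 : Matrix (Fin n) (Fin n) F)) (w : Fin n → F) :
    x *ᵥ proj x k c w = c • proj x k c w := by
  unfold proj
  rw [mulVec_smul, mulVec_sum, smul_comm c]
  congr 1
  let f : ℕ → (Fin n → F) := fun j => (c⁻¹) ^ j • (x ^ j) *ᵥ w
  have e1 : ∀ j, x *ᵥ f j = c • f (j + 1) := fun j => by
    simp only [f]
    rw [mulVec_smul, mulVec_mulVec, ← pow_succ', smul_smul, pow_succ' (c⁻¹), ← mul_assoc,
      mul_inv_cancel₀ hc, one_mul]
  have e2 : f k = f 0 := by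
    simp only [f]
    rw [hx, smul_mulVec, one_mulVec, smul_smul, inv_pow, inv_mul_cancel₀ (pow_ne_zero _ hc),
      one_smul, pow_zero, pow_zero, one_mulVec, one_smul]
  calc ∑ j ∈ Finset.range k, x *ᵥ f j = ∑ j ∈ Finset.range k, c • f (j + 1) :=
        Finset.sum_congr rfl fun j _ => e1 j
    _ = c • ∑ j ∈ Finset.range k, f (j + 1) := by rw [Finset.smul_sum]
    _ = c • ∑ j ∈ Finset.range k, f j := by
      congr 1
      have h1 := Finset.sum_range_succ f k
      rw [Finset.sum_range_succ', e2] at h1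
      exact add_right_cancel h1

theorem sum_proj {n : ℕ} {x : Matrix (Fin n) (Fin n) F} {k : ℕ} (hk : (k : F) ≠ 0) (η : F) {ζ : F}
    (hζ : IsPrimitiveRoot ζ k) (w : Fin n → F) :
    ∑ i ∈ Finset.range k, proj x k (η * ζ ^ i) w = w := by
  unfold proj
  rw [← Finset.smul_sum, Finset.sum_comm]
  have hk0 : 0 < k := Nat.pos_of_ne_zero fun h => hk (by simp [h])
  rw [Finset.sum_eq_single 0]
  · simp only [pow_zero, one_mulVec, one_smul, Finset.sum_const, Finset.card_range]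
    rw [← Nat.cast_smul_eq_nsmul F, smul_smul, inv_mul_cancel₀ hk, one_smul]
  · intro j hj hj0
    rw [← Finset.sum_smul]
    have hz : ∑ i ∈ Finset.range k, ((η * ζ ^ i)⁻¹) ^ j = 0 := by
      have h1 : ∀ i, ((η * ζ ^ i)⁻¹) ^ j = (η⁻¹) ^ j * ((ζ⁻¹) ^ j) ^ i := fun i => by
        rw [mul_inv, mul_pow, ← inv_pow, pow_right_comm]
      simp only [h1, ← Finset.mul_sum]
      have hne : (ζ⁻¹) ^ j ≠ 1 := fun h => by
        rw [inv_pow, inv_eq_one] at h
        exact hj0 (Nat.eq_zero_of_dvd_of_lt ((hζ.pow_eq_one_iff_dvd j).mp h) (Finset.mem_range.mp hj))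
      rw [geom_sum_eq hne, ← pow_mul, mul_comm j, pow_mul, hζ.inv.pow_eq_one]
      simp
    rw [hz, zero_smul]
  · intro h
    exact absurd (Finset.mem_range.mpr hk0) h

/-- The diagonal generator. -/
def aMat (ω : F) : Matrix (Fin 3) (Fin 3) F := diagonal ![1, ω, ω ^ 2]

/-- The cyclic generator. -/
def bMat : Matrix (Fin 3) (Fin 3) F := !![0, 0, 1; 1, 0, 0; 0, 1, 0]

theorem exp_three_comm {H : Type*} [Group H] (h3 : ∀ x : H, x * x * x = 1) (x y : H) :
    x * (y * x * y⁻¹) = y * x * y⁻¹ * x := by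
  have hinv : ∀ u : H, u⁻¹ = u * u := fun u => inv_eq_of_mul_eq_one_left (h3 u)
  have hswap : ∀ u v : H, u * v * u = v⁻¹ * u⁻¹ * v⁻¹ := fun u v => by
    have h := h3 (u * v)
    have h2 : u * v * u * (v * u * v) = 1 := by rw [← h]; group
    rw [eq_inv_of_mul_eq_one_left h2]; group
  have l : x * (y * x * y⁻¹) = y⁻¹ * x⁻¹ * y := by
    rw [show x * (y * x * y⁻¹) = (x * y * x) * y⁻¹ by group, hswap]
    rw [show y⁻¹ * x⁻¹ * y⁻¹ * y⁻¹ = y⁻¹ * x⁻¹ * (y⁻¹ * y⁻¹) by group]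
    rw [show y⁻¹ * y⁻¹ = (y * y)⁻¹ by group, ← hinv, inv_inv]
  rw [l, show y * x * y⁻¹ * x = y * (x * y⁻¹ * x) by group, hswap, inv_inv]
  rw [show y * (y * x⁻¹ * y) = (y * y) * x⁻¹ * y by group, ← hinv]

/-- `R` is generated by two elements whose matrices in the basis given by the columns of `g` are standard. -/
def IsStd (R : Subgroup (GL (Fin 3) F)) (g : GL (Fin 3) F) (ω : F) : Prop :=
  IsPrimitiveRoot ω 3 ∧ ∃ a b : GL (Fin 3) F, R = Subgroup.closure {a, b} ∧
    ((g⁻¹ * a * g : GL (Fin 3) F) : Matrix (Fin 3) (Fin 3) F) = aMat ω ∧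
    ((g⁻¹ * b * g : GL (Fin 3) F) : Matrix (Fin 3) (Fin 3) F) = bMat

theorem conj_eq_of_cols {g : GL (Fin 3) F} {a : GL (Fin 3) F} {M : Matrix (Fin 3) (Fin 3) F}
    (h : (a : Matrix (Fin 3) (Fin 3) F) * g = (g : Matrix (Fin 3) (Fin 3) F) * M) :
    ((g⁻¹ * a * g : GL (Fin 3) F) : Matrix (Fin 3) (Fin 3) F) = M := by
  rw [Units.val_mul, Units.val_mul, mul_assoc, h, ← mul_assoc, Units.inv_mul, one_mul]

set_option maxHeartbeats 800000 in
/-- Eigenvector triples for a non-abelian exponent three group of order 27. -/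
theorem exists_vectors (h3 : (3 : F) ≠ 0) {ζ : F} (hζ : IsPrimitiveRoot ζ 3) (R : Subgroup (GL (Fin 3) F))
    (hR : Nat.card R = 27) (hRe : Monoid.exponent R = 3) (hRna : ¬ IsMulCommutative R) :
    ∃ (a b : GL (Fin 3) F) (ω : F) (v : Fin 3 → Fin 3 → F), a ∈ R ∧ b ∈ R ∧ IsPrimitiveRoot ω 3 ∧
      R = Subgroup.closure {a, b} ∧ v 0 ≠ 0 ∧
      (∀ i, (a : Matrix (Fin 3) (Fin 3) F) *ᵥ v i = (![1, ω, ω ^ 2] i) • v i) ∧
      (∀ i, (b : Matrix (Fin 3) (Fin 3) F) *ᵥ v i = v (i + 1)) := by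
  haveI : Finite R := Nat.finite_of_card_ne_zero (by rw [hR]; norm_num)
  obtain ⟨a, b, hab⟩ : ∃ a b : R, a * b ≠ b * a := by
    by_contra h
    push Not at h
    exact hRna ⟨⟨h⟩⟩
  have he : ∀ x : R, x * x * x = 1 := fun x => by
    have h := Monoid.pow_exponent_eq_one x
    rw [hRe] at h
    rwa [pow_succ, pow_two] at h
  set z : R := a * b * a⁻¹ * b⁻¹ with hz
  have hza : z * a = a * z := by
    have h := exp_three_comm he a b
    have h' : Commute a (b * a * b⁻¹) := h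
    have h'' : Commute a (b * a⁻¹ * b⁻¹) := by
      rw [show b * a⁻¹ * b⁻¹ = (b * a * b⁻¹)⁻¹ by group]; exact h'.inv_right
    have : Commute a z := by
      rw [show z = a * (b * a⁻¹ * b⁻¹) by rw [hz]; group]
      exact (Commute.refl a).mul_right h''
    exact this.eq.symm
  have hzb : z * b = b * z := by
    have h' : Commute b (a * b * a⁻¹) := exp_three_comm he b a
    exact (h'.mul_right (Commute.refl b).inv_right).eq.symm
  have hab' : a * b = z * (b * a) := by rw [hz]; group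
  have hz1 : z ≠ 1 := fun h => hab (by rw [hab', h, one_mul])
  let φ : R →* Matrix (Fin 3) (Fin 3) F := (Units.coeHom _).comp R.subtype
  set A : Matrix (Fin 3) (Fin 3) F := φ a with hAdef
  set B : Matrix (Fin 3) (Fin 3) F := φ b with hBdef
  set Z : Matrix (Fin 3) (Fin 3) F := φ z with hZdef
  have hA3 : ∀ x : R, φ x ^ 3 = ((1 : F) ^ 3) • (1 : Matrix (Fin 3) (Fin 3) F) := fun x => by
    have h : x ^ 3 = 1 := by have := Monoid.pow_exponent_eq_one x; rwa [hRe] at this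
    rw [← map_pow, h, map_one, one_pow, one_smul]
  have hA3' : ∀ (x : R) (i : ℕ), φ x ^ 3 = (((1 : F) * ζ ^ i) ^ 3) • (1 : Matrix (Fin 3) (Fin 3) F) :=
    fun x i => by rw [one_mul, ← pow_mul, mul_comm, pow_mul, hζ.pow_eq_one, one_pow, hA3, one_pow]
  have hne0 : ∀ i : ℕ, (1 : F) * ζ ^ i ≠ 0 := fun i => by
    rw [one_mul]; exact pow_ne_zero _ (hζ.ne_zero (by norm_num))
  -- an eigenvector of `z` with eigenvalue different from one
  obtain ⟨ω, hω, hω1, u, hu, hzu⟩ : ∃ ω : F, ω ^ 3 = 1 ∧ ω ≠ 1 ∧ ∃ u : Fin 3 → F, u ≠ 0 ∧ Z *ᵥ u = ω • u := by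
    by_contra hcon
    push Not at hcon
    refine hz1 (Subtype.ext (Units.ext ?_))
    show Z = 1
    refine Matrix.ext_iff_mulVec.mpr fun w => ?_
    rw [one_mulVec]
    have hsum := sum_proj (x := Z) (k := 3) (by simpa using h3) 1 hζ w
    have hzero : ∀ i ∈ Finset.range 3, i ≠ 0 → proj Z 3 (1 * ζ ^ i) w = 0 := by
      intro i hi hi0
      by_contra hp
      refine hcon (1 * ζ ^ i) ?_ ?_ _ hp (mulVec_proj (hne0 i) (hA3' z i) w)
      · rw [one_mul, ← pow_mul, mul_comm, pow_mul, hζ.pow_eq_one, one_pow]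
      · rw [one_mul]
        exact fun h => hi0 (Nat.eq_zero_of_dvd_of_lt ((hζ.pow_eq_one_iff_dvd i).mp h) (Finset.mem_range.mp hi))
    rw [Finset.sum_eq_single 0 hzero (by simp)] at hsum
    have h := mulVec_proj (hne0 0) (hA3' z 0) w
    have e : (φ z) = Z := rfl
    rw [e, hsum, pow_zero, one_mul, one_smul] at h
    exact h
  have hωp : IsPrimitiveRoot ω 3 := by
    refine IsPrimitiveRoot.iff_orderOf.mpr ?_
    exact orderOf_eq_prime hω hω1
  have hcz : ∀ x : R, z * x = x * z → ∀ w, Z *ᵥ (φ x *ᵥ w) = φ x *ᵥ (Z *ᵥ w) := by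
    intro x hx w
    rw [mulVec_mulVec, mulVec_mulVec]
    exact congrArg (· *ᵥ w) (show φ z * φ x = φ x * φ z by rw [← map_mul, hx, map_mul])
  -- an eigenvector of `a` inside that eigenspace
  obtain ⟨i, v, hv, hav, hzv⟩ : ∃ (i : ℕ) (v : Fin 3 → F), v ≠ 0 ∧ A *ᵥ v = ω ^ i • v ∧ Z *ᵥ v = ω • v := by
    have hsum := sum_proj (x := A) (k := 3) (by simpa using h3) 1 hωp u
    obtain ⟨i, -, hi⟩ := Finset.exists_ne_zero_of_sum_ne_zero (hsum.symm ▸ hu :
      ∑ i ∈ Finset.range 3, proj A 3 (1 * ω ^ i) u ≠ 0)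
    refine ⟨i, _, hi, ?_, ?_⟩
    · have h1 : (1 : F) * ω ^ i ≠ 0 := by rw [one_mul]; exact pow_ne_zero _ (hωp.ne_zero (by norm_num))
      have h2 : A ^ 3 = (((1 : F) * ω ^ i) ^ 3) • (1 : Matrix (Fin 3) (Fin 3) F) := by
        rw [one_mul, ← pow_mul, mul_comm, pow_mul, hω, one_pow]
        simpa using hA3 a
      simpa only [one_mul] using mulVec_proj h1 h2 u
    · unfold proj
      rw [mulVec_smul, mulVec_sum, smul_comm ω ((3 : ℕ) : F)⁻¹, Finset.smul_sum (r := ω)]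
      congr 1
      refine Finset.sum_congr rfl fun j _ => ?_
      have hj : z * a ^ j = a ^ j * z := (Commute.pow_right hza j).eq
      have e := hcz (a ^ j) hj u
      rw [map_pow] at e
      have eA : φ a = A := rfl
      rw [eA] at e
      rw [mulVec_smul, e, hzu, mulVec_smul, smul_comm]
  have hb : ∀ w, A *ᵥ (B *ᵥ w) = Z *ᵥ (B *ᵥ (A *ᵥ w)) := by
    intro w
    simp only [mulVec_mulVec]
    refine congrArg (· *ᵥ w) ?_
    rw [hAdef, hBdef, hZdef, ← map_mul, ← map_mul, ← map_mul, hab']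
  have hiter : ∀ n : ℕ, A *ᵥ ((B ^ n) *ᵥ v) = ω ^ (i + n) • (B ^ n) *ᵥ v ∧
      Z *ᵥ ((B ^ n) *ᵥ v) = ω • (B ^ n) *ᵥ v := by
    intro n
    induction n with
    | zero => simpa using ⟨hav, hzv⟩
    | succ n ih =>
      have e : (B ^ (n + 1)) *ᵥ v = B *ᵥ ((B ^ n) *ᵥ v) := by rw [mulVec_mulVec, ← pow_succ']
      have hzB : ∀ w, Z *ᵥ (B *ᵥ w) = B *ᵥ (Z *ᵥ w) := hcz b hzb
      rw [e]
      refine ⟨?_, by rw [hzB, ih.2, mulVec_smul]⟩
      rw [hb, ih.1, mulVec_smul, mulVec_smul, hzB, ih.2, mulVec_smul, smul_smul, ← pow_succ]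
      rfl
  have hB3 : B ^ 3 = 1 := by simpa using hA3 b
  refine ⟨a, b, ω, fun m => (B ^ (2 * i + m.val)) *ᵥ v, a.2, b.2, hωp, ?_, ?_, ?_, ?_⟩
  · -- generation
    refine le_antisymm ?_ ((Subgroup.closure_le _).mpr (by
      rintro x (rfl | rfl)
      · exact a.2
      · exact b.2))
    set T := Subgroup.closure ({(a : GL (Fin 3) F), (b : GL (Fin 3) F)} : Set (GL (Fin 3) F)) with hT
    have hle : T ≤ R := (Subgroup.closure_le _).mpr (by
      rintro x (rfl | rfl)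
      · exact a.2
      · exact b.2)
    haveI : Finite T := Finite.of_injective _ (Subgroup.inclusion_injective hle)
    refine (Subgroup.eq_of_le_of_card_ge hle ?_).ge
    have hd : Nat.card T ∣ 3 ^ 3 := by
      have := Subgroup.card_dvd_of_le hle
      rwa [hR] at this
    obtain ⟨n, hn, hn'⟩ := (Nat.dvd_prime_pow Nat.prime_three).mp hd
    rcases Nat.lt_or_ge n 3 with h | h
    · exfalso
      haveI : Fact (Nat.Prime 3) := ⟨Nat.prime_three⟩
      have hcomm : ∀ x y : T, x * y = y * x := by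
        intro x y
        interval_cases n
        · haveI : Subsingleton T := (Nat.card_eq_one_iff_unique.mp (by simpa using hn')).1
          exact Subsingleton.elim _ _
        · haveI := isCyclic_of_prime_card (p := 3) (α := T) (by simpa using hn')
          letI := IsCyclic.commGroup (α := T)
          exact mul_comm x y
        · exact IsPGroup.commutative_of_card_eq_prime_sq (p := 3) hn' x y
      have := hcomm ⟨a, Subgroup.subset_closure (Set.mem_insert _ _)⟩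
        ⟨b, Subgroup.subset_closure (Set.mem_insert_of_mem _ rfl)⟩
      exact hab (Subtype.ext (by simpa using congrArg Subtype.val this))
    · have : n = 3 := by omega
      rw [hn', this, hR]
      norm_num
  · intro h
    apply hv
    have h' : (B ^ (2 * i)) *ᵥ v = 0 := by simpa using h
    have e : (B ^ i) *ᵥ ((B ^ (2 * i)) *ᵥ v) = v := by
      rw [mulVec_mulVec, ← pow_add, show i + 2 * i = 3 * i by ring, pow_mul, hB3, one_pow, one_mulVec]
    rw [← e, h', mulVec_zero]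
  · intro m
    show A *ᵥ _ = _
    rw [(hiter _).1, show i + (2 * i + m.val) = 3 * i + m.val by ring, pow_add, pow_mul, hω, one_pow, one_mul]
    fin_cases m <;> simp
  · intro m
    show B *ᵥ _ = _
    rw [mulVec_mulVec, ← pow_succ']
    fin_cases m
    · rfl
    · rfl
    · show (B ^ (2 * i + 2 + 1)) *ᵥ v = (B ^ (2 * i + 0)) *ᵥ v
      rw [show 2 * i + 2 + 1 = 2 * i + 3 from rfl, pow_add, hB3, mul_one, add_zero]

/-- Such a triple of vectors is a basis giving standard form. -/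
theorem isStd_of_vectors {R : Subgroup (GL (Fin 3) F)} {a b : GL (Fin 3) F} {ω : F}
    (hω : IsPrimitiveRoot ω 3) (hR : R = Subgroup.closure {a, b}) {v : Fin 3 → Fin 3 → F}
    (ha : ∀ i, (a : Matrix (Fin 3) (Fin 3) F) *ᵥ v i = (![1, ω, ω ^ 2] i) • v i)
    (hb : ∀ i, (b : Matrix (Fin 3) (Fin 3) F) *ᵥ v i = v (i + 1))
    (g : GL (Fin 3) F) (hg : ∀ i j, (g : Matrix (Fin 3) (Fin 3) F) i j = v j i) :
    IsStd R g ω := by
  refine ⟨hω, a, b, hR, conj_eq_of_cols ?_, conj_eq_of_cols ?_⟩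
  · ext i j
    rw [Matrix.mul_apply, aMat, mul_diagonal, hg, mul_comm]
    have h := congrFun (ha j) i
    simp only [Matrix.mulVec, dotProduct, Pi.smul_apply, smul_eq_mul] at h
    rw [← h]
    exact Finset.sum_congr rfl fun k _ => by rw [hg]
  · ext i j
    rw [Matrix.mul_apply]
    have h := congrFun (hb j) i
    simp only [Matrix.mulVec, dotProduct] at h
    rw [show (∑ k, (b : Matrix (Fin 3) (Fin 3) F) i k * (g : Matrix (Fin 3) (Fin 3) F) k j) = v (j + 1) i by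
      rw [← h]; exact Finset.sum_congr rfl fun k _ => by rw [hg]]
    rw [Matrix.mul_apply, Fin.sum_univ_three, hg, hg, hg]
    fin_cases j <;> simp [bMat]

theorem det_cols_ne_zero (h3 : (3 : F) ≠ 0) {a b : GL (Fin 3) F} {ω : F}
    (hω : IsPrimitiveRoot ω 3) {v : Fin 3 → Fin 3 → F} (hv : v 0 ≠ 0)
    (ha : ∀ i, (a : Matrix (Fin 3) (Fin 3) F) *ᵥ v i = (![1, ω, ω ^ 2] i) • v i)
    (hb : ∀ i, (b : Matrix (Fin 3) (Fin 3) F) *ᵥ v i = v (i + 1)) :
    (Matrix.of fun i j => v j i).det ≠ 0 := by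
  have hvne : ∀ i, v i ≠ 0 := by
    have hstep : ∀ i, v i ≠ 0 → v (i + 1) ≠ 0 := fun i hi h => by
      rw [← hb] at h
      apply hi
      have := congrArg (((b⁻¹ : GL (Fin 3) F) : Matrix (Fin 3) (Fin 3) F) *ᵥ ·) h
      simpa [mulVec_mulVec] using this
    have h1 := hstep 0 hv
    have h2 := hstep _ h1
    intro i
    fin_cases i <;> simp_all
  intro hdet
  obtain ⟨c, hc, hc0⟩ := Matrix.exists_mulVec_eq_zero_iff.mpr hdet
  have s0 : c 0 • v 0 + c 1 • v 1 + c 2 • v 2 = 0 := by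
    rw [← hc0]; funext i
    simp [Matrix.mulVec, dotProduct, Fin.sum_univ_three, mul_comm]
  have hA : ∀ d0 d1 d2 : F, (a : Matrix (Fin 3) (Fin 3) F) *ᵥ (d0 • v 0 + d1 • v 1 + d2 • v 2) =
      d0 • v 0 + (ω * d1) • v 1 + (ω ^ 2 * d2) • v 2 := by
    intro d0 d1 d2
    simp only [mulVec_add, mulVec_smul, ha, smul_smul]
    simp [mul_comm]
  have s1 : c 0 • v 0 + (ω * c 1) • v 1 + (ω ^ 2 * c 2) • v 2 = 0 := by
    rw [← hA, s0, mulVec_zero]
  have s2 : c 0 • v 0 + (ω * (ω * c 1)) • v 1 + (ω ^ 2 * (ω ^ 2 * c 2)) • v 2 = 0 := by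
    rw [← hA, s1, mulVec_zero]
  have hw : ω ^ 2 + ω + 1 = 0 := by
    have h1 : ω ≠ 1 := hω.ne_one (by norm_num)
    have h2 : (ω - 1) * (ω ^ 2 + ω + 1) = 0 := by
      have := hω.pow_eq_one
      linear_combination this
    exact (mul_eq_zero.mp h2).resolve_left (sub_ne_zero.mpr h1)
  have hw3 := hω.pow_eq_one
  have k0 : (3 * c 0) • v 0 = 0 := by
    funext i
    have e0 := congrFun s0 i; have e1 := congrFun s1 i; have e2 := congrFun s2 i
    simp only [Pi.add_apply, Pi.smul_apply, smul_eq_mul, Pi.zero_apply] at e0 e1 e2 ⊢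
    linear_combination e0 + e1 + e2 - (c 1 * v 1 i) * hw - (c 2 * v 2 i) * (hw + ω * hw3)
  have k1 : (3 * c 1) • v 1 = 0 := by
    funext i
    have e0 := congrFun s0 i; have e1 := congrFun s1 i; have e2 := congrFun s2 i
    simp only [Pi.add_apply, Pi.smul_apply, smul_eq_mul, Pi.zero_apply] at e0 e1 e2 ⊢
    linear_combination e0 + ω ^ 2 * e1 + ω * e2 - (c 0 * v 0 i) * hw - (2 * c 1 * v 1 i) * hw3
      - (c 2 * v 2 i) * (hw + ω * hw3 + ω ^ 2 * hw3)
  have k2 : (3 * c 2) • v 2 = 0 := by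
    funext i
    have e0 := congrFun s0 i; have e1 := congrFun s1 i; have e2 := congrFun s2 i
    simp only [Pi.add_apply, Pi.smul_apply, smul_eq_mul, Pi.zero_apply] at e0 e1 e2 ⊢
    linear_combination e0 + ω * e1 + ω ^ 2 * e2 - (c 0 * v 0 i) * hw - (c 1 * v 1 i) * (hw + ω * hw3)
      - (c 2 * v 2 i) * (2 * hw3 + ω ^ 3 * hw3 - hw3 + hw3)
  apply hc
  funext i
  fin_cases i
  · simpa [smul_eq_zero, h3, hvne] using k0
  · simpa [smul_eq_zero, h3, hvne] using k1
  · simpa [smul_eq_zero, h3, hvne] using k2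

theorem exists_std (h3 : (3 : F) ≠ 0) {ζ : F} (hζ : IsPrimitiveRoot ζ 3) (R : Subgroup (GL (Fin 3) F))
    (hR : Nat.card R = 27) (hRe : Monoid.exponent R = 3) (hRna : ¬ IsMulCommutative R) :
    ∃ g ω, IsStd R g ω := by
  obtain ⟨a, b, ω, v, -, -, hω, hgen, hv, ha, hb⟩ := exists_vectors h3 hζ R hR hRe hRna
  exact ⟨GeneralLinearGroup.mkOfDetNeZero _ (det_cols_ne_zero h3 hω hv ha hb), ω,
    isStd_of_vectors hω hgen ha hb _ fun i j => rfl⟩

end CfsgLib.Heis27
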