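import Cfsg.Agent.Lib.Heis27.Basic

/-! Which elements of prime order are conjugate into the normaliser of a 3^{1+2} in dimension three. -/

set_option autoImplicit false

namespace CfsgLib.Heis27

open Matrix

variable {F : Type*} [Field F]

/-- Diagonal invertible matrix. -/
def dg (d : Fin 3 → Fˣ) : GL (Fin 3) F :=
  ⟨diagonal fun i => (d i : F), diagonal fun i => ((d i)⁻¹ : Fˣ), by simp [diagonal_mul_diagonal],
    by simp [diagonal_mul_diagonal]⟩

@[simp] theorem coe_dg (d : Fin 3 → Fˣ) : (dg d : Matrix (Fin 3) (Fin 3) F) = diagonal fun i => (d i : F) := rfl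

theorem det_dg (d : Fin 3 → Fˣ) : GeneralLinearGroup.det (dg d) = ∏ i, d i :=
  Units.ext (by
    show (diagonal fun i => (d i : F)).det = _
    rw [det_diagonal, Units.coe_prod])

theorem dg_comm (d e : Fin 3 → Fˣ) : dg d * dg e = dg e * dg d :=
  Units.ext (by simp [diagonal_mul_diagonal, mul_comm])

theorem mem_normalizer_of_gen {a b y : GL (Fin 3) F} [Finite ↥(Subgroup.closure ({a, b} : Set (GL (Fin 3) F)))]
    (ha : y * a * y⁻¹ ∈ Subgroup.closure ({a, b} : Set (GL (Fin 3) F)))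
    (hb : y * b * y⁻¹ ∈ Subgroup.closure ({a, b} : Set (GL (Fin 3) F))) :
    y ∈ Subgroup.normalizer ((Subgroup.closure ({a, b} : Set (GL (Fin 3) F)) : Subgroup _) : Set (GL (Fin 3) F)) := by
  set T := Subgroup.closure ({a, b} : Set (GL (Fin 3) F)) with hT
  have hle : T.map (MulAut.conj y).toMonoidHom ≤ T := by
    rw [hT, MonoidHom.map_closure, Subgroup.closure_le, ← hT]
    rintro _ ⟨x, rfl | rfl, rfl⟩
    · exact ha
    · exact hb
  have heq : T.map (MulAut.conj y).toMonoidHom = T :=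
    Subgroup.eq_of_le_of_card_ge hle (Subgroup.card_map_of_injective (MulAut.conj y).injective).ge
  rw [Subgroup.mem_normalizer_iff]
  intro h
  constructor
  · intro hh
    rw [← heq]
    exact ⟨h, hh, rfl⟩
  · intro hh
    rw [← heq] at hh
    obtain ⟨h', hh', e⟩ := hh
    have : h' = h := (MulAut.conj y).injective e
    exact this ▸ hh'

variable {R : Subgroup (GL (Fin 3) F)} {g : GL (Fin 3) F} {ω : F}

theorem diag3 (f : Fin 3 → F) : diagonal f = !![f 0, 0, 0; 0, f 1, 0; 0, 0, f 2] := by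
  ext i j; fin_cases i <;> fin_cases j <;> simp

theorem aMat_eq (ω : F) : aMat ω = !![1, 0, 0; 0, ω, 0; 0, 0, ω ^ 2] := by
  rw [aMat, diag3]; simp

theorem omega_rel (hω : IsPrimitiveRoot ω 3) :
    aMat ω * (bMat : Matrix (Fin 3) (Fin 3) F) = ω • (bMat * aMat ω) := by
  have h := hω.pow_eq_one
  rw [aMat_eq]
  ext i j
  fin_cases i <;> fin_cases j <;> simp [bMat, Matrix.mul_apply, Fin.sum_univ_three] <;>
    first | ring1 | linear_combination h | linear_combination -h | linear_combination ω * h | linear_combination -ω * h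

/-- Diagonal elements with equal cubes normalise the standard group. -/
theorem IsStd.diag_mem (h : IsStd R g ω) [Finite R] (d : Fin 3 → Fˣ) (hd : ∀ i, (d i : F) ^ 3 = (d 0 : F) ^ 3) :
    g * dg d * g⁻¹ ∈ Subgroup.normalizer (R : Set (GL (Fin 3) F)) := by
  obtain ⟨hω, a, b, rfl, ha, hb⟩ := h
  obtain ⟨a', ha'⟩ : ∃ a', a' = g⁻¹ * a * g := ⟨_, rfl⟩
  obtain ⟨b', hb'⟩ : ∃ b', b' = g⁻¹ * b * g := ⟨_, rfl⟩
  rw [← ha'] at ha
  rw [← hb'] at hb
  have hA : a ∈ Subgroup.closure ({a, b} : Set (GL (Fin 3) F)) := Subgroup.subset_closure (Set.mem_insert _ _)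
  have hB : b ∈ Subgroup.closure ({a, b} : Set (GL (Fin 3) F)) :=
    Subgroup.subset_closure (Set.mem_insert_of_mem _ rfl)
  refine mem_normalizer_of_gen ?_ ?_
  · have e : dg d * a' = a' * dg d := Units.ext (by
      rw [Units.val_mul, Units.val_mul, ha, coe_dg, aMat, diagonal_mul_diagonal, diagonal_mul_diagonal]
      exact congrArg diagonal (funext fun i => mul_comm _ _))
    have e2 : g * dg d * g⁻¹ * a * (g * dg d * g⁻¹)⁻¹ = a := by
      calc g * dg d * g⁻¹ * a * (g * dg d * g⁻¹)⁻¹ = g * (dg d * a') * (dg d)⁻¹ * g⁻¹ := by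
            rw [ha']; group
        _ = g * (a' * dg d) * (dg d)⁻¹ * g⁻¹ := by rw [e]
        _ = a := by rw [ha']; group
    rw [e2]; exact hA
  · have h1 : ∀ i, ∃ k : ℕ, (d i : F) = d 0 * ω ^ k := by
      intro i
      have hx : ((d i : F) / d 0) ^ 3 = 1 := by
        rw [div_pow, hd i, div_self (pow_ne_zero _ (Units.ne_zero _))]
      obtain ⟨k, -, hk⟩ := hω.eq_pow_of_pow_eq_one hx
      exact ⟨k, by rw [hk, mul_div_cancel₀ _ (Units.ne_zero _)]⟩
    obtain ⟨k1, hk1⟩ := h1 1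
    obtain ⟨k2, hk2⟩ := h1 2
    let t := k2 + k1
    obtain ⟨z, hz⟩ : ∃ z, z = a' * b' * a'⁻¹ * b'⁻¹ := ⟨_, rfl⟩
    have hzmem : g * z * g⁻¹ ∈ Subgroup.closure ({a, b} : Set (GL (Fin 3) F)) := by
      have : g * z * g⁻¹ = a * b * a⁻¹ * b⁻¹ := by rw [hz, ha', hb']; group
      rw [this]
      exact mul_mem (mul_mem (mul_mem hA hB) (inv_mem hA)) (inv_mem hB)
    have hzv : (z : Matrix (Fin 3) (Fin 3) F) = ω • 1 := by
      have e : z * (b' * a') = a' * b' := by rw [hz]; group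
      have e' := congrArg (fun x : GL (Fin 3) F => (x : Matrix (Fin 3) (Fin 3) F)) e
      simp only [Units.val_mul, ha, hb, omega_rel hω] at e'
      have e2 : (z : Matrix (Fin 3) (Fin 3) F) * ((b' * a' : GL (Fin 3) F) : Matrix (Fin 3) (Fin 3) F) =
          (ω • (1 : Matrix (Fin 3) (Fin 3) F)) * ((b' * a' : GL (Fin 3) F) : Matrix (Fin 3) (Fin 3) F) := by
        rw [smul_mul_assoc, one_mul, Units.val_mul b' a', ha, hb]
        exact e'
      exact (Units.mul_left_inj _).mp e2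
    have key : dg d * b' = z ^ k1 * b' * a' ^ t * dg d := Units.ext (by
      have e : ((z ^ k1 * b' * a' ^ t * dg d : GL (Fin 3) F) : Matrix (Fin 3) (Fin 3) F) =
          ω ^ k1 • (bMat * diagonal ![1, ω, ω ^ 2] ^ t * diagonal fun i => (d i : F)) := by
        rw [Units.val_mul, Units.val_mul, Units.val_mul, Units.val_pow_eq_pow_val, Units.val_pow_eq_pow_val,
          hzv, ha, hb, coe_dg, aMat, smul_pow, one_pow, smul_mul_assoc, one_mul, smul_mul_assoc, smul_mul_assoc]
      rw [e, Units.val_mul, hb, coe_dg, diagonal_pow, mul_assoc, diagonal_mul_diagonal, diag3, diag3]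
      have h3 := hω.pow_eq_one
      ext i j
      fin_cases i <;> fin_cases j <;> simp [bMat, Matrix.mul_apply, Fin.sum_univ_three]
      · rw [hk2]
        have : ω ^ k1 * ((ω ^ 2) ^ t * ω ^ k2) = 1 := by
          rw [← pow_mul, ← pow_add, ← pow_add, show k1 + (2 * t + k2) = 3 * (k1 + k2) by simp only [t]; ring,
            pow_mul, h3, one_pow]
        linear_combination -(d 0 : F) * this
      · rw [hk1]; ring
      · rw [hk1, hk2]
        have : ω ^ k1 * (ω ^ t * ω ^ k1) = ω ^ k2 := by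
          rw [← pow_add, ← pow_add, show k1 + (t + k1) = 3 * k1 + k2 by simp only [t]; ring, pow_add, pow_mul,
            h3, one_pow, one_mul]
        linear_combination -(d 0 : F) * this)
    have e2 : g * dg d * g⁻¹ * b * (g * dg d * g⁻¹)⁻¹ = (g * z * g⁻¹) ^ k1 * b * a ^ t := by
      calc g * dg d * g⁻¹ * b * (g * dg d * g⁻¹)⁻¹ = g * (dg d * b') * (dg d)⁻¹ * g⁻¹ := by
            rw [hb']; group
        _ = g * (z ^ k1 * b' * a' ^ t * dg d) * (dg d)⁻¹ * g⁻¹ := by rw [key]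
        _ = (g * z ^ k1 * g⁻¹) * (g * b' * g⁻¹) * (g * a' ^ t * g⁻¹) := by group
        _ = (g * z * g⁻¹) ^ k1 * b * a ^ t := by
            rw [conj_pow, ← conj_pow (b := a'), ha', hb']
            group
    rw [e2]
    exact mul_mem (mul_mem (pow_mem hzmem _) hB) (pow_mem hA _)

/-- The involution `-(swap of the last two coordinates)`. -/
def sMat : GL (Fin 3) F :=
  ⟨!![-1, 0, 0; 0, 0, -1; 0, -1, 0], !![-1, 0, 0; 0, 0, -1; 0, -1, 0],
    by ext i j; fin_cases i <;> fin_cases j <;> simp [Matrix.mul_apply, Fin.sum_univ_three],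
    by ext i j; fin_cases i <;> fin_cases j <;> simp [Matrix.mul_apply, Fin.sum_univ_three]⟩

theorem IsStd.swap_mem (h : IsStd R g ω) [Finite R] :
    g * sMat * g⁻¹ ∈ Subgroup.normalizer (R : Set (GL (Fin 3) F)) := by
  obtain ⟨hω, a, b, rfl, ha, hb⟩ := h
  obtain ⟨a', ha'⟩ : ∃ a', a' = g⁻¹ * a * g := ⟨_, rfl⟩
  obtain ⟨b', hb'⟩ : ∃ b', b' = g⁻¹ * b * g := ⟨_, rfl⟩
  rw [← ha'] at ha
  rw [← hb'] at hb
  have h3 := hω.pow_eq_one
  refine mem_normalizer_of_gen ?_ ?_
  · have key : sMat * a' = a' * a' * sMat := Units.ext (by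
      rw [Units.val_mul, Units.val_mul, Units.val_mul, ha]
      ext i j
      rw [aMat_eq]
      fin_cases i <;> fin_cases j <;> simp [sMat, Matrix.mul_apply, Fin.sum_univ_three] <;>
        first | ring1 | linear_combination h3 | linear_combination -h3 | linear_combination ω * h3 | linear_combination -ω * h3)
    have e2 : g * sMat * g⁻¹ * a * (g * sMat * g⁻¹)⁻¹ = a * a := by
      calc g * sMat * g⁻¹ * a * (g * sMat * g⁻¹)⁻¹ = g * (sMat * a') * sMat⁻¹ * g⁻¹ := by rw [ha']; group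
        _ = g * (a' * a' * sMat) * sMat⁻¹ * g⁻¹ := by rw [key]
        _ = a * a := by rw [ha']; group
    rw [e2]
    exact mul_mem (Subgroup.subset_closure (Set.mem_insert _ _)) (Subgroup.subset_closure (Set.mem_insert _ _))
  · have key : sMat * b' = b' * b' * sMat := Units.ext (by
      rw [Units.val_mul, Units.val_mul, Units.val_mul, hb]
      ext i j
      fin_cases i <;> fin_cases j <;> simp [sMat, bMat, Matrix.mul_apply, Fin.sum_univ_three])
    have e2 : g * sMat * g⁻¹ * b * (g * sMat * g⁻¹)⁻¹ = b * b := by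
      calc g * sMat * g⁻¹ * b * (g * sMat * g⁻¹)⁻¹ = g * (sMat * b') * sMat⁻¹ * g⁻¹ := by rw [hb']; group
        _ = g * (b' * b' * sMat) * sMat⁻¹ * g⁻¹ := by rw [key]
        _ = b * b := by rw [hb']; group
    rw [e2]
    exact mul_mem (Subgroup.subset_closure (Set.mem_insert_of_mem _ rfl))
      (Subgroup.subset_closure (Set.mem_insert_of_mem _ rfl))

theorem IsStd.det_eq_one (h : IsStd R g ω) : R ≤ (GeneralLinearGroup.det : GL (Fin 3) F →* Fˣ).ker := by
  obtain ⟨hω, a, b, rfl, ha, hb⟩ := h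
  rw [Subgroup.closure_le]
  have hconj : ∀ x : GL (Fin 3) F,
      GeneralLinearGroup.det (g⁻¹ * x * g) = GeneralLinearGroup.det x := fun x => by
    rw [map_mul, map_mul, map_inv, mul_comm, mul_inv_cancel_left]
  rintro x (rfl | rfl)
  · rw [SetLike.mem_coe, MonoidHom.mem_ker, ← hconj]
    apply Units.ext
    show Matrix.det _ = 1
    rw [ha, aMat, det_diagonal, Fin.prod_univ_three]
    simp only [Matrix.cons_val_zero, Matrix.cons_val_one, Matrix.cons_val]
    linear_combination hω.pow_eq_one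
  · rw [SetLike.mem_coe, MonoidHom.mem_ker, ← hconj]
    apply Units.ext
    show Matrix.det _ = 1
    rw [hb, Matrix.det_fin_three]
    simp [bMat]

set_option maxHeartbeats 800000 in
/-- A non-scalar element normalising `R` with scalar `r`-th power forces `r ≤ 3`. -/
theorem IsStd.prime_le_three (h : IsStd R g ω) (hR : Nat.card R = 27) {y : GL (Fin 3) F} {r : ℕ} [hr : Fact r.Prime]
    (hy : y ∈ Subgroup.normalizer (R : Set (GL (Fin 3) F))) {z : F}
    (hz : ((y ^ r : GL (Fin 3) F) : Matrix (Fin 3) (Fin 3) F) = z • 1)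
    (hns : ∀ c : F, (y : Matrix (Fin 3) (Fin 3) F) ≠ c • 1) : r ≤ 3 := by
  classical
  haveI : Finite R := Nat.finite_of_card_ne_zero (by rw [hR]; norm_num)
  obtain ⟨hω, a, b, hgen, ha, hb⟩ := h
  let conjR : R → R := fun x => ⟨y * x * y⁻¹, (Subgroup.mem_normalizer_iff.mp hy x).mp x.2⟩
  have hit : ∀ (n : ℕ) (x : R), ((conjR^[n]) x : GL (Fin 3) F) = y ^ n * x * (y ^ n)⁻¹ := by
    intro n x
    induction n with
    | zero => simp
    | succ n ih =>
      rw [Function.iterate_succ_apply']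
      show y * ((conjR^[n]) x : GL (Fin 3) F) * y⁻¹ = _
      rw [ih, pow_succ']; group
  have hzc : ∀ x : GL (Fin 3) F, y ^ r * x = x * y ^ r := fun x => Units.ext (by
    rw [Units.val_mul, Units.val_mul, hz, smul_mul_assoc, one_mul, mul_smul_comm, mul_one])
  have hper : conjR^[r] = id := funext fun x => Subtype.ext (by
    rw [hit, hzc, mul_inv_cancel_right]; rfl)
  let f : Function.End R := conjR
  have hf : f ^ r ^ 1 = 1 := by
    rw [pow_one]
    exact funext fun x => by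
      have := congrFun hper x
      show (f ^ r) x = x
      have hp : ∀ n : ℕ, (f ^ n) x = conjR^[n] x := by
        intro n
        induction n with
        | zero => rfl
        | succ n ih =>
          rw [pow_succ', Function.iterate_succ_apply', ← ih]; rfl
      rw [hp]; exact this
  haveI : Fintype R := Fintype.ofFinite R
  have hmod := Equiv.Perm.card_fixedPoints_modEq (p := r) (n := 1) hf
  rw [← Nat.card_eq_fintype_card, hR] at hmod
  -- the fixed points form a subgroup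
  let C : Subgroup R := ((Subgroup.centralizer ({y} : Set (GL (Fin 3) F))).subgroupOf R)
  have hfix : ∀ x : R, x ∈ Function.fixedPoints f ↔ x ∈ C := by
    intro x
    show conjR x = x ↔ _
    rw [Subgroup.mem_subgroupOf, Subgroup.mem_centralizer_singleton_iff, Subtype.ext_iff]
    show y * x * y⁻¹ = x ↔ _
    rw [mul_inv_eq_iff_eq_mul]
    exact eq_comm
  have hcard : Fintype.card (Function.fixedPoints f) = Nat.card C := by
    rw [← Nat.card_eq_fintype_card]
    exact Nat.card_congr (Equiv.subtypeEquivRight hfix)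
  rw [hcard] at hmod
  have hA : a ∈ R := hgen ▸ Subgroup.subset_closure (Set.mem_insert _ _)
  have hB : b ∈ R := hgen ▸ Subgroup.subset_closure (Set.mem_insert_of_mem _ rfl)
  have hne : C ≠ ⊤ := by
    intro htop
    have hya : a * y = y * a :=
      Subgroup.mem_centralizer_singleton_iff.mp (show (⟨a, hA⟩ : R) ∈ C from htop ▸ Subgroup.mem_top _)
    have hyb : b * y = y * b :=
      Subgroup.mem_centralizer_singleton_iff.mp (show (⟨b, hB⟩ : R) ∈ C from htop ▸ Subgroup.mem_top _)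
    set y' := g⁻¹ * y * g with hy'
    have c1 : (aMat ω) * (y' : Matrix (Fin 3) (Fin 3) F) = (y' : Matrix (Fin 3) (Fin 3) F) * aMat ω := by
      rw [← ha, ← Units.val_mul, ← Units.val_mul]
      refine congrArg _ ?_
      calc g⁻¹ * a * g * y' = g⁻¹ * (a * y) * g := by rw [hy']; group
        _ = g⁻¹ * (y * a) * g := by rw [hya]
        _ = y' * (g⁻¹ * a * g) := by rw [hy']; group
    have c2 : (bMat) * (y' : Matrix (Fin 3) (Fin 3) F) = (y' : Matrix (Fin 3) (Fin 3) F) * bMat := by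
      rw [← hb, ← Units.val_mul, ← Units.val_mul]
      refine congrArg _ ?_
      calc g⁻¹ * b * g * y' = g⁻¹ * (b * y) * g := by rw [hy']; group
        _ = g⁻¹ * (y * b) * g := by rw [hyb]
        _ = y' * (g⁻¹ * b * g) := by rw [hy']; group
    have h1 : ω ≠ 1 := hω.ne_one (by norm_num)
    have h2 : ω ^ 2 ≠ 1 := fun h => by
      have := (hω.pow_eq_one_iff_dvd 2).mp h; omega
    have h12 : ω ≠ ω ^ 2 := fun h => h1 (by
      have h0 : ω * (ω - 1) = 0 := by linear_combination -h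
      exact sub_eq_zero.mp ((mul_eq_zero.mp h0).resolve_left (hω.ne_zero (by norm_num))))
    have hd : ∀ i j, (![1, ω, ω ^ 2] i - ![1, ω, ω ^ 2] j) * (y' : Matrix (Fin 3) (Fin 3) F) i j = 0 := by
      intro i j
      have := congrFun (congrFun c1 i) j
      rw [aMat, diagonal_mul, mul_diagonal] at this
      rw [sub_mul, this]; ring
    have e01 := hd 0 1; have e02 := hd 0 2; have e10 := hd 1 0
    have e12 := hd 1 2; have e20 := hd 2 0; have e21 := hd 2 1
    simp only [Matrix.cons_val_zero, Matrix.cons_val_one, Matrix.cons_val, mul_eq_zero, sub_eq_zero,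
      h1, h2, h12, Ne.symm h1, Ne.symm h2, Ne.symm h12, false_or] at e01 e02 e10 e12 e20 e21
    have f1 := congrFun (congrFun c2 1) 0
    have f2 := congrFun (congrFun c2 2) 1
    simp [bMat, Matrix.mul_apply, Fin.sum_univ_three] at f1 f2
    have hsc : (y' : Matrix (Fin 3) (Fin 3) F) = (y' : Matrix (Fin 3) (Fin 3) F) 0 0 • 1 := by
      ext i j
      fin_cases i <;> fin_cases j <;> simp [e01, e02, e10, e12, e20, e21, f1, f2, Matrix.one_apply]
    apply hns ((y' : Matrix (Fin 3) (Fin 3) F) 0 0)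
    have ey : y = g * y' * g⁻¹ := by rw [hy']; group
    conv_lhs => rw [ey, Units.val_mul, Units.val_mul, hsc, mul_smul_comm, mul_one, smul_mul_assoc, Units.mul_inv]
  obtain ⟨zc, hzc'⟩ : ∃ zc : R, (zc : GL (Fin 3) F) = a * b * a⁻¹ * b⁻¹ :=
    ⟨⟨_, mul_mem (mul_mem (mul_mem hA hB) (inv_mem hA)) (inv_mem hB)⟩, rfl⟩
  have hzmat : (((zc : GL (Fin 3) F)) : Matrix (Fin 3) (Fin 3) F) = ω • 1 := by
    obtain ⟨a', ha'⟩ : ∃ a', a' = g⁻¹ * a * g := ⟨_, rfl⟩
    obtain ⟨b', hb'⟩ : ∃ b', b' = g⁻¹ * b * g := ⟨_, rfl⟩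
    obtain ⟨w, hw⟩ : ∃ w, w = g⁻¹ * (zc : GL (Fin 3) F) * g := ⟨_, rfl⟩
    rw [← ha'] at ha
    rw [← hb'] at hb
    have e : w * (b' * a') = a' * b' := by
      rw [hw, hzc', ha', hb']; group
    have e' := congrArg (fun x : GL (Fin 3) F => (x : Matrix (Fin 3) (Fin 3) F)) e
    simp only [Units.val_mul, ha, hb, omega_rel hω] at e'
    have e2 : (w : Matrix (Fin 3) (Fin 3) F) * ((b' * a' : GL (Fin 3) F) : Matrix (Fin 3) (Fin 3) F) =
        (ω • (1 : Matrix (Fin 3) (Fin 3) F)) * ((b' * a' : GL (Fin 3) F) : Matrix (Fin 3) (Fin 3) F) := by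
      rw [smul_mul_assoc, one_mul, Units.val_mul b' a', ha, hb]
      exact e'
    have e3 := (Units.mul_left_inj _).mp e2
    have ez : (zc : GL (Fin 3) F) = g * w * g⁻¹ := by rw [hw]; group
    rw [ez, Units.val_mul, Units.val_mul, e3, mul_smul_comm, mul_one, smul_mul_assoc, Units.mul_inv]
  have hzC : zc ∈ C := Subgroup.mem_subgroupOf.mpr (Subgroup.mem_centralizer_singleton_iff.mpr (Units.ext (by
    rw [Units.val_mul, Units.val_mul, hzmat, smul_mul_assoc, one_mul, mul_smul_comm, mul_one])))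
  have hC1 : C ≠ ⊥ := fun h => by
    have hz1 : zc = 1 := Subgroup.mem_bot.mp (h ▸ hzC)
    rw [hz1] at hzmat
    have := congrFun (congrFun hzmat 0) 0
    simp at this
    exact hω.ne_one (by norm_num) this.symm
  have hdvd : Nat.card C ∣ 3 ^ 3 := by
    have := Subgroup.card_subgroup_dvd_card C
    rwa [hR] at this
  obtain ⟨k, hk, hk'⟩ := (Nat.dvd_prime_pow Nat.prime_three).mp hdvd
  have hcases : Nat.card C = 3 ∨ Nat.card C = 9 := by
    interval_cases k
    · exact absurd (Subgroup.card_eq_one.mp (by simpa using hk')) hC1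
    · left; rw [hk']; norm_num
    · right; rw [hk']; norm_num
    · exact absurd (Subgroup.eq_top_of_card_eq C (by rw [hR, hk']; norm_num)) hne
  by_contra hr3
  have hr' : r ∣ 24 ∨ r ∣ 18 := by
    rcases hcases with h | h <;> rw [h] at hmod
    · exact Or.inl ((Nat.modEq_iff_dvd' (by norm_num)).mp hmod.symm)
    · exact Or.inr ((Nat.modEq_iff_dvd' (by norm_num)).mp hmod.symm)
  have hle : r ≤ 24 := by
    rcases hr' with h | h
    · exact Nat.le_of_dvd (by norm_num) h
    · exact le_trans (Nat.le_of_dvd (by norm_num) h) (by norm_num)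
  have hp := hr.out
  interval_cases r <;> norm_num at *

/-- An abstract classical group in dimension three. -/
structure Ambient (K : Subgroup (GL (Fin 3) F)) (N : Subgroup Fˣ) : Prop where
  det_mem : ∀ g ∈ K, GeneralLinearGroup.det g ∈ N
  dg_mem : ∀ d : Fin 3 → Fˣ, (∀ i, d i ∈ N) → dg d ∈ K
  perm_mem : ∀ σ : Equiv.Perm (Fin 3), ∃ P ∈ K, ∀ d : Fin 3 → Fˣ, P⁻¹ * dg d * P = dg (d ∘ σ)
  sMat_mem : sMat ∈ K
  diagonalise : ∀ x ∈ K, ∀ (k : ℕ) (η : Fˣ) (ζ : F), (k = 2 ∨ k = 3) → η ∈ N → IsPrimitiveRoot ζ k →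
    (x : Matrix (Fin 3) (Fin 3) F) ^ k = ((η : F) ^ k) • 1 → ∃ g ∈ K, ∃ d : Fin 3 → Fˣ,
      (∀ i, d i ∈ N ∧ (d i : F) ^ k = (η : F) ^ k) ∧ g⁻¹ * x * g = dg d

theorem dg_conj_det {K : Subgroup (GL (Fin 3) F)} {N : Subgroup Fˣ} (hK : Ambient K N)
    {x h g0 : GL (Fin 3) F} (hh : h ∈ K) (hg0 : g0 ∈ K) {d : Fin 3 → Fˣ} (hd : h⁻¹ * x * h = dg d)
    (hN : g0 * dg d * g0⁻¹ ∈ Subgroup.normalizer (R : Set (GL (Fin 3) F))) :
    ∃ g ∈ K ⊓ (GeneralLinearGroup.det : GL (Fin 3) F →* Fˣ).ker, g⁻¹ * x * g ∈ Subgroup.normalizer (R : Set (GL (Fin 3) F)) := by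
  set δ : Fˣ := GeneralLinearGroup.det g0 * (GeneralLinearGroup.det h)⁻¹ with hδ
  have hδN : δ ∈ N := mul_mem (hK.det_mem _ hg0) (inv_mem (hK.det_mem _ hh))
  set D := dg (![δ, 1, 1] : Fin 3 → Fˣ) with hD
  have hDK : D ∈ K := hK.dg_mem _ fun i => by
    fin_cases i <;> simp [hδN, one_mem]
  refine ⟨h * D * g0⁻¹, Subgroup.mem_inf.mpr ⟨mul_mem (mul_mem hh hDK) (inv_mem hg0), ?_⟩, ?_⟩
  · rw [MonoidHom.mem_ker, map_mul, map_mul, map_inv, hD, det_dg, Fin.prod_univ_three]
    simp only [Matrix.cons_val_zero, Matrix.cons_val_one, Matrix.cons_val, mul_one, hδ]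
    simp [mul_comm, mul_left_comm]
  · have e : (h * D * g0⁻¹)⁻¹ * x * (h * D * g0⁻¹) = g0 * dg d * g0⁻¹ := by
      calc (h * D * g0⁻¹)⁻¹ * x * (h * D * g0⁻¹) = g0 * (D⁻¹ * ((h⁻¹ * x * h) * D)) * g0⁻¹ := by group
        _ = g0 * (D⁻¹ * (D * dg d)) * g0⁻¹ := by rw [hd, hD, dg_comm]
        _ = g0 * dg d * g0⁻¹ := by rw [inv_mul_cancel_left]
    rwa [e]

end CfsgLib.Heis27
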