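import Cfsg.Agent.Lib.Heis27.Main

/-! The general linear group as an ambient group. -/

set_option autoImplicit false

namespace CfsgLib.Heis27

open Matrix

variable {F : Type*} [Field F]

/-- A permutation matrix as an invertible matrix. -/
def pgl (σ : Equiv.Perm (Fin 3)) : GL (Fin 3) F :=
  GeneralLinearGroup.mkOfDetNeZero ((σ⁻¹ : Equiv.Perm (Fin 3)).permMatrix F) (by
    rw [Matrix.det_permutation]
    rcases Int.units_eq_one_or (Equiv.Perm.sign (σ⁻¹ : Equiv.Perm (Fin 3))) with h | h <;> simp [h])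

theorem pgl_conj (σ : Equiv.Perm (Fin 3)) (d : Fin 3 → Fˣ) : (pgl σ)⁻¹ * dg d * pgl σ = dg (d ∘ σ) := by
  rw [mul_assoc, inv_mul_eq_iff_eq_mul]
  refine Units.ext ?_
  rw [Units.val_mul, Units.val_mul]
  show diagonal (fun i => (d i : F)) * (σ⁻¹ : Equiv.Perm (Fin 3)).permMatrix F =
    (σ⁻¹ : Equiv.Perm (Fin 3)).permMatrix F * diagonal (fun i => ((d ∘ σ) i : F))
  ext a b
  rw [diagonal_mul, mul_diagonal]
  simp only [Equiv.Perm.permMatrix, PEquiv.toMatrix_apply, Equiv.toPEquiv_apply, Option.mem_def,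
    Option.some.injEq, Function.comp_apply]
  split_ifs with h
  · rw [← h, Equiv.Perm.coe_inv, Equiv.apply_symm_apply]; ring
  · ring

theorem eig_cube {x g : GL (Fin 3) F} {d : Fin 3 → Fˣ} (h : g⁻¹ * x * g = dg d) {k : ℕ} {c : F}
    (hx : (x : Matrix (Fin 3) (Fin 3) F) ^ k = c • 1) (i : Fin 3) : (d i : F) ^ k = c := by
  have e : (g⁻¹ * x * g) ^ k = g⁻¹ * x ^ k * g := by
    have := conj_pow (i := k) (a := g⁻¹) (b := x)
    rwa [inv_inv] at this
  have e2 := congrArg (fun u : GL (Fin 3) F => (u : Matrix (Fin 3) (Fin 3) F)) e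
  simp only [h, Units.val_mul, Units.val_pow_eq_pow_val, hx, mul_smul_comm, mul_one, smul_mul_assoc,
    Units.inv_mul, coe_dg, diagonal_pow] at e2
  have := congrFun (congrFun e2 i) i
  simpa using this

theorem ambient_GL [Fintype F] (h3 : (3 : F) ≠ 0) (h2 : (2 : F) ≠ 0) :
    Ambient (⊤ : Subgroup (GL (Fin 3) F)) (⊤ : Subgroup Fˣ) := by
  classical
  refine ⟨fun _ _ => Subgroup.mem_top _, fun _ _ => Subgroup.mem_top _,
    fun σ => ⟨pgl σ, Subgroup.mem_top _, pgl_conj σ⟩, Subgroup.mem_top _, ?_⟩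
  intro x _ k η ζ hk _ hζ hx
  have hk0 : (k : F) ≠ 0 := by rcases hk with rfl | rfl <;> simpa using ‹_›
  set X := (x : Matrix (Fin 3) (Fin 3) F) with hX
  let s : Set (Fin 3 → F) := {v | ∃ c : Fˣ, X *ᵥ v = (c : F) • v}
  have hspan : ⊤ ≤ Submodule.span F s := by
    intro w _
    rw [← sum_proj (x := X) hk0 (η : F) hζ w]
    refine Submodule.sum_mem _ fun i _ => Submodule.subset_span ?_
    have hne : (η : F) * ζ ^ i ≠ 0 := mul_ne_zero η.ne_zero (pow_ne_zero _ (hζ.ne_zero (by rcases hk with rfl | rfl <;> norm_num)))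
    refine ⟨Units.mk0 _ hne, mulVec_proj hne ?_ w⟩
    rw [hx, mul_pow, ← pow_mul, mul_comm i, pow_mul, hζ.pow_eq_one, one_pow, mul_one]
  let B := Module.Basis.ofSpan hspan
  haveI := B.finiteDimensional_of_finite
  haveI : Fintype _ := FiniteDimensional.fintypeBasisIndex B
  have hc : Fintype.card _ = 3 := (Module.finrank_eq_card_basis B).symm.trans (by simp)
  let B' := B.reindex (Fintype.equivFinOfCardEq hc)
  have heig : ∀ j, ∃ c : Fˣ, X *ᵥ B' j = (c : F) • B' j := fun j => by
    have : B' j ∈ s := by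
      rw [Module.Basis.reindex_apply]
      exact Module.Basis.ofSpan_subset hspan ⟨_, rfl⟩
    exact this
  choose d hd using heig
  let M : Matrix (Fin 3) (Fin 3) F := Matrix.of fun i j => B' j i
  have hdet : M.det ≠ 0 := by
    intro h0
    obtain ⟨c, hc, hc0⟩ := Matrix.exists_mulVec_eq_zero_iff.mpr h0
    apply hc
    have : ∑ j, c j • B' j = 0 := by
      rw [← hc0]; funext i
      simp [M, Matrix.mulVec, dotProduct, Finset.sum_apply, mul_comm]
    funext j
    exact Fintype.linearIndependent_iff.mp B'.linearIndependent c this j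
  let g := GeneralLinearGroup.mkOfDetNeZero M hdet
  have hgx : g⁻¹ * x * g = dg d := Units.ext (conj_eq_of_cols (by
    ext i j
    rw [coe_dg, mul_diagonal, Matrix.mul_apply]
    have := congrFun (hd j) i
    simp only [Matrix.mulVec, dotProduct, Pi.smul_apply, smul_eq_mul] at this
    show ∑ l, X i l * M l j = M i j * d j
    rw [show M i j = B' j i from rfl, mul_comm, ← this]
    rfl))
  exact ⟨g, Subgroup.mem_top _, d, fun i => ⟨Subgroup.mem_top _, eig_cube hgx hx i⟩, hgx⟩

end CfsgLib.Heis27
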