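import Cfsg.Agent.Lib.Heis27.Core

/-! The criterion: every element of order `r` is conjugate into the normaliser iff `r = 2` or `r = 3` (and ninth roots). -/

set_option autoImplicit false

namespace CfsgLib.Heis27

open Matrix

variable {F : Type*} [Field F] {R : Subgroup (GL (Fin 3) F)} {g : GL (Fin 3) F} {ω : F}

theorem cube_scalar_eq_one {x : GL (Fin 3) F} (hx : GeneralLinearGroup.det x = 1) {r : ℕ} {z : F}
    (hz : ((x ^ r : GL (Fin 3) F) : Matrix (Fin 3) (Fin 3) F) = z • 1) : z ^ 3 = 1 := by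
  have h := congrArg Matrix.det hz
  rw [Units.val_pow_eq_pow_val, det_pow, det_smul, det_one, mul_one, Fintype.card_fin] at h
  rw [← h, show (x : Matrix (Fin 3) (Fin 3) F).det = 1 from congrArg Units.val hx, one_pow]

theorem exists_perm_one (d : Fin 3 → Fˣ) (h : ∀ i, (d i : F) = 1 ∨ (d i : F) = -1) (hne : (-1 : F) ≠ 1)
    (hp : ∏ i, (d i : F) = 1) (hnc : ∃ i, (d i : F) ≠ 1) :
    ∃ j, (d j : F) = 1 ∧ ∀ i, i ≠ j → (d i : F) = -1 := by
  rw [Fin.prod_univ_three] at hp
  obtain ⟨k, hk⟩ := hnc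
  rcases h 0 with a | a <;> rcases h 1 with b | b <;> rcases h 2 with c | c <;>
    simp only [a, b, c, mul_one, one_mul, mul_neg, neg_neg] at hp <;>
    first
      | exact absurd hp hne
      | (exfalso; fin_cases k <;> simp_all; done)
      | exact ⟨0, a, fun i hi => by fin_cases i <;> simp_all⟩
      | exact ⟨1, b, fun i hi => by fin_cases i <;> simp_all⟩
      | exact ⟨2, c, fun i hi => by fin_cases i <;> simp_all⟩

theorem main [Finite (GL (Fin 3) F)] (h3 : (3 : F) ≠ 0) (h2 : (2 : F) ≠ 0) {K : Subgroup (GL (Fin 3) F)} {N : Subgroup Fˣ}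
    (hK : Ambient K N) (hR : Nat.card R = 27) (hRK : R ≤ K) (hg : g ∈ K) (hstd : IsStd R g ω)
    (hneg : (-1 : Fˣ) ∈ N) (Q : Prop)
    (h81 : ¬ Q → ¬ 81 ∣ Nat.card ↥(K ⊓ (GeneralLinearGroup.det : GL (Fin 3) F →* Fˣ).ker))
    (hroot : Q → ∀ z : F, z ^ 3 = 1 → ∃ η : Fˣ, η ∈ N ∧ (η : F) ^ 3 = z)
    (r : ℕ) [hr : Fact r.Prime]
    (hΩ : r ∣ (Subgroup.normalizer (R : Set (GL (Fin 3) F))).relIndex
      (K ⊓ (GeneralLinearGroup.det : GL (Fin 3) F →* Fˣ).ker)) :
    (∀ x ∈ K ⊓ (GeneralLinearGroup.det : GL (Fin 3) F →* Fˣ).ker,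
      (∃ z : F, ((x ^ r : GL (Fin 3) F) : Matrix (Fin 3) (Fin 3) F) = z • (1 : Matrix (Fin 3) (Fin 3) F)) →
      (∀ z : F, (x : Matrix (Fin 3) (Fin 3) F) ≠ z • (1 : Matrix (Fin 3) (Fin 3) F)) →
      ∃ g' ∈ K ⊓ (GeneralLinearGroup.det : GL (Fin 3) F →* Fˣ).ker,
        g'⁻¹ * x * g' ∈ Subgroup.normalizer (R : Set (GL (Fin 3) F))) ↔ (r = 2 ∨ (r = 3 ∧ Q)) := by
  classical
  set S := K ⊓ (GeneralLinearGroup.det : GL (Fin 3) F →* Fˣ).ker with hS
  haveI : Finite R := inferInstance
  have hω := hstd.1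
  have hω1 : ω ≠ 1 := hω.ne_one (by norm_num)
  have hne : (-1 : F) ≠ 1 := fun h => h2 (by linear_combination -h)
  have hr3Q : r = 3 → Q := by
    intro h
    by_contra hQ
    apply h81 hQ
    have hle : R ≤ Subgroup.normalizer (R : Set (GL (Fin 3) F)) ⊓ S :=
      le_inf Subgroup.le_normalizer (le_inf hRK hstd.det_eq_one)
    have hd := Subgroup.card_dvd_of_le hle
    rw [hR] at hd
    have := Nat.mul_dvd_mul hd (h ▸ hΩ)
    rw [← Subgroup.inf_relIndex_right, ← Subgroup.relIndex_bot_left,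
      Subgroup.relIndex_mul_relIndex _ _ _ bot_le inf_le_right, Subgroup.relIndex_bot_left] at this
    exact this
  constructor
  · intro hall
    by_contra hcon
    push Not at hcon
    have hrge : 3 < r := by
      have := hr.out.two_le
      by_contra hlt
      rcases (show r = 2 ∨ r = 3 by omega) with h | h
      · exact hcon.1 h
      · exact hcon.2 h (hr3Q h)
    have hdvd : r ∣ Nat.card S := hΩ.trans (Subgroup.relIndex_dvd_card _ _)
    obtain ⟨x, hx⟩ := exists_prime_orderOf_dvd_card' r hdvd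
    have hxo : orderOf (x : GL (Fin 3) F) = r := by rw [Subgroup.orderOf_coe, hx]
    have hdet : GeneralLinearGroup.det (x : GL (Fin 3) F) = 1 := (Subgroup.mem_inf.mp x.2).2
    have hxz : ((((x : GL (Fin 3) F)) ^ r : GL (Fin 3) F) : Matrix (Fin 3) (Fin 3) F) = (1 : F) • 1 := by
      rw [← hxo, pow_orderOf_eq_one, one_smul, Units.val_one]
    have hns : ∀ c : F, ((x : GL (Fin 3) F) : Matrix (Fin 3) (Fin 3) F) ≠ c • 1 := by
      intro c hc
      have hc3 : c ^ 3 = 1 := by
        have := cube_scalar_eq_one (r := 1) hdet (z := c) (by rw [pow_one]; exact hc)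
        exact this
      have : (x : GL (Fin 3) F) ^ 3 = 1 := Units.ext (by
        rw [Units.val_pow_eq_pow_val, hc, smul_pow, one_pow, hc3, one_smul, Units.val_one])
      have := Nat.le_of_dvd (by norm_num) (hxo ▸ orderOf_dvd_of_pow_eq_one this)
      omega
    obtain ⟨g', -, hg'⟩ := hall x x.2 ⟨1, hxz⟩ hns
    have := hstd.prime_le_three hR (r := r) (z := 1) hg'
      (by
        have e : (g'⁻¹ * (x : GL (Fin 3) F) * g') ^ r = g'⁻¹ * (x : GL (Fin 3) F) ^ r * g' := by
          have := conj_pow (i := r) (a := g'⁻¹) (b := (x : GL (Fin 3) F))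
          rwa [inv_inv] at this
        rw [e, ← hxo, pow_orderOf_eq_one, mul_one, inv_mul_cancel, Units.val_one, one_smul])
      (fun c hc => hns c (by
        have e : (x : GL (Fin 3) F) = g' * (g'⁻¹ * x * g') * g'⁻¹ := by group
        rw [e, Units.val_mul, Units.val_mul, hc, mul_smul_comm, mul_one, smul_mul_assoc, Units.mul_inv]))
    omega
  · rintro (rfl | ⟨rfl, hQ⟩) x hx ⟨z, hz⟩ hns
    · -- involutions
      obtain ⟨hxK, hxd⟩ := Subgroup.mem_inf.mp hx
      have hz3 := cube_scalar_eq_one hxd hz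
      have hy : ((x ^ 3 : GL (Fin 3) F) : Matrix (Fin 3) (Fin 3) F) ^ 2 = (((1 : Fˣ) : F) ^ 2) • 1 := by
        rw [← Units.val_pow_eq_pow_val, ← pow_mul, show 3 * 2 = 2 * 3 by rfl, pow_mul, Units.val_pow_eq_pow_val, hz,
          smul_pow, one_pow, hz3, Units.val_one, one_pow]
      have hζ : IsPrimitiveRoot (-1 : F) 2 := IsPrimitiveRoot.iff_orderOf.mpr (orderOf_eq_prime (by norm_num) hne)
      obtain ⟨h, hh, d, hd, hdx⟩ := hK.diagonalise (x ^ 3) (pow_mem hxK 3) 2 1 (-1) (Or.inl rfl) (one_mem N) hζ hy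
      have hS1 : (sMat : GL (Fin 3) F) ^ 2 = 1 := by
        rw [pow_two]; exact Units.ext sMat.val_inv
      obtain ⟨g1, hg1, e, he, hes⟩ := hK.diagonalise sMat hK.sMat_mem 2 1 (-1) (Or.inl rfl) (one_mem N) hζ
        (by rw [← Units.val_pow_eq_pow_val, hS1, Units.val_one, Units.val_one, one_pow, one_smul])
      have hpm : ∀ f : Fin 3 → Fˣ, (∀ i, f i ∈ N ∧ (f i : F) ^ 2 = ((1 : Fˣ) : F) ^ 2) → ∀ i, (f i : F) = 1 ∨ (f i : F) = -1 := by
        intro f hf i
        have := (hf i).2
        rw [Units.val_one, one_pow] at this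
        exact sq_eq_one_iff.mp this
      have hprod : ∀ (u v : GL (Fin 3) F) (f : Fin 3 → Fˣ), GeneralLinearGroup.det u = 1 → v⁻¹ * u * v = dg f →
          ∏ i, (f i : F) = 1 := by
        intro u v f hu huv
        have := congrArg GeneralLinearGroup.det huv
        rw [map_mul, map_mul, hu, mul_one, map_inv, inv_mul_cancel, det_dg] at this
        rw [← Units.coe_prod, ← this, Units.val_one]
      have hsd : GeneralLinearGroup.det (sMat : GL (Fin 3) F) = 1 := Units.ext (by
        show Matrix.det _ = 1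
        rw [sMat, Matrix.det_fin_three]; simp)
      have hx3d : GeneralLinearGroup.det (x ^ 3) = 1 := by rw [map_pow, MonoidHom.mem_ker.mp hxd, one_pow]
      have hnc : ∀ (u v : GL (Fin 3) F) (f : Fin 3 → Fˣ), u ≠ 1 → v⁻¹ * u * v = dg f → ∃ i, (f i : F) ≠ 1 := by
        intro u v f hu huv
        by_contra hall
        push Not at hall
        apply hu
        have h1 : dg f = 1 := Units.ext (by
          rw [coe_dg, Units.val_one, ← diagonal_one]; exact congrArg diagonal (funext hall))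
        rw [h1] at huv
        calc u = v * (v⁻¹ * u * v) * v⁻¹ := by group
          _ = 1 := by rw [huv]; group
      have hx31 : x ^ 3 ≠ 1 := fun h31 => by
        refine hns (z⁻¹) ?_
        have hz0 : z ≠ 0 := fun h0 => by rw [h0] at hz3; simp at hz3
        have e : (x : Matrix (Fin 3) (Fin 3) F) * (z • 1) = 1 := by
          rw [← hz, ← Units.val_mul, ← pow_succ', h31, Units.val_one]
        rw [mul_smul_comm, mul_one] at e
        rw [← one_smul F (x : Matrix (Fin 3) (Fin 3) F), ← inv_mul_cancel₀ hz0, ← smul_smul, e]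
      have hs1 : (sMat : GL (Fin 3) F) ≠ 1 := fun h => by
        have := congrArg (fun u : GL (Fin 3) F => (u : Matrix (Fin 3) (Fin 3) F) 0 0) h
        simp [sMat] at this
        exact hne this
      obtain ⟨j, hj, hj'⟩ := exists_perm_one d (hpm d hd) hne (hprod _ _ d hx3d hdx) (hnc _ _ d hx31 hdx)
      obtain ⟨i, hi, hi'⟩ := exists_perm_one e (hpm e he) hne (hprod _ _ e hsd hes) (hnc _ _ e hs1 hes)
      obtain ⟨P, hP, hPd⟩ := hK.perm_mem (Equiv.swap i j)
      have hde : d ∘ Equiv.swap i j = e := by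
        funext m
        apply Units.ext
        rcases eq_or_ne m i with rfl | hm
        · simp [hj, hi]
        · rw [hi' m hm]
          apply hj'
          intro h
          apply hm
          have := congrArg (Equiv.swap i j) h
          rwa [Equiv.swap_apply_self, Equiv.swap_apply_right] at this
      have hPx : (h * P)⁻¹ * x ^ 3 * (h * P) = dg e := by
        rw [← hde, ← hPd, ← hdx]; group
      have hg0 : g * g1 ∈ K := mul_mem hg hg1
      have hN : g * g1 * dg e * (g * g1)⁻¹ ∈ Subgroup.normalizer (R : Set (GL (Fin 3) F)) := by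
        rw [← hes]
        have : g * g1 * (g1⁻¹ * sMat * g1) * (g * g1)⁻¹ = g * sMat * g⁻¹ := by group
        rw [this]; exact hstd.swap_mem
      obtain ⟨g', hg', hm⟩ := dg_conj_det hK (mul_mem hh hP) hg0 hPx hN
      refine ⟨g', hg', ?_⟩
      -- `x` differs from `x ^ 3` by a scalar
      have hsc : x ^ 2 ∈ Subgroup.normalizer (R : Set (GL (Fin 3) F)) := by
        apply Subgroup.mem_normalizer_iff.mpr
        intro u
        have : x ^ 2 * u = u * x ^ 2 := Units.ext (by
          rw [Units.val_mul, Units.val_mul, hz, smul_mul_assoc, one_mul, mul_smul_comm, mul_one])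
        rw [this, mul_inv_cancel_right]
      have e2 : g'⁻¹ * x * g' = g'⁻¹ * x ^ 3 * g' * (x ^ 2)⁻¹ := by
        have hcen : g'⁻¹ * x ^ 2 * g' = x ^ 2 := by
          have : x ^ 2 * g' = g' * x ^ 2 := Units.ext (by
            rw [Units.val_mul, Units.val_mul, hz, smul_mul_assoc, one_mul, mul_smul_comm, mul_one])
          rw [mul_assoc, this, inv_mul_cancel_left]
        conv_rhs => rw [show g'⁻¹ * x ^ 3 * g' = g'⁻¹ * x * g' * (g'⁻¹ * x ^ 2 * g') by group, hcen]
        rw [mul_inv_cancel_right]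
      rw [e2]
      exact mul_mem hm (inv_mem hsc)
    · -- elements of order three
      obtain ⟨hxK, hxd⟩ := Subgroup.mem_inf.mp hx
      obtain ⟨η, hη, hη3⟩ := hroot hQ z (cube_scalar_eq_one hxd hz)
      obtain ⟨h, hh, d, hd, hdx⟩ := hK.diagonalise x hxK 3 η ω (Or.inr rfl) hη hω
        (by rw [← Units.val_pow_eq_pow_val, hz, hη3])
      exact dg_conj_det hK hh hg hdx (hstd.diag_mem d fun i => by rw [(hd i).2, (hd 0).2])

end CfsgLib.Heis27
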