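import Cfsg.Agent.Lib.Heis27.Linear
import Cfsg.Agent.Lib.UnitaryOrder

/-! The general unitary group as an ambient group, and a unitary standard basis. -/

set_option autoImplicit false

namespace CfsgLib.Heis27

open Matrix

variable {F : Type*} [Field F] [Fintype F] {q : ℕ}

/-- The hermitian form in dimension three. -/
abbrev hh (q : ℕ) (u v : Fin 3 → F) : F := Cfsg.hermForm 3 F q u v

section
variable (hF : Fintype.card F = q ^ 2)
include hF

theorem hh_add_left (u v w : Fin 3 → F) : hh q (u + v) w = hh q u w + hh q v w := by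
  simp [hh, Cfsg.hermForm, add_mul, Finset.sum_add_distrib]

theorem hh_smul_left (c : F) (u w : Fin 3 → F) : hh q (c • u) w = c * hh q u w := by
  simp [hh, Cfsg.hermForm, Finset.mul_sum, mul_assoc]

theorem hh_smul_right (c : F) (u w : Fin 3 → F) : hh q u (c • w) = c ^ q * hh q u w := by
  simp only [hh, Cfsg.hermForm, Finset.mul_sum, Pi.smul_apply, smul_eq_mul, mul_pow]
  exact Finset.sum_congr rfl fun i _ => by ring

theorem hh_sum_left {ι : Type*} (s : Finset ι) (f : ι → Fin 3 → F) (w : Fin 3 → F) :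
    hh q (∑ i ∈ s, f i) w = ∑ i ∈ s, hh q (f i) w := by
  simp only [hh, Cfsg.hermForm, Finset.sum_apply, Finset.sum_mul]
  exact Finset.sum_comm

theorem hh_swap (u v : Fin 3 → F) : hh q u v ^ q = hh q v u := CfsgLib.UnitaryOrder.herm_swap hF u v

theorem hh_swap_zero {u v : Fin 3 → F} (h : hh q u v = 0) : hh q v u = 0 := by
  have hq := (CfsgLib.UnitaryBasic.frob_exists hF).1
  rw [← hh_swap hF, h, zero_pow (by omega)]

theorem hh_sum_right {ι : Type*} (s : Finset ι) (f : ι → Fin 3 → F) (w : Fin 3 → F) :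
    hh q w (∑ i ∈ s, f i) = ∑ i ∈ s, hh q w (f i) := by
  obtain ⟨-, σ, hσ⟩ := CfsgLib.UnitaryBasic.frob_exists hF
  rw [← hh_swap hF, hh_sum_left hF, ← hσ, map_sum]
  exact Finset.sum_congr rfl fun i _ => by rw [hσ, hh_swap hF]

theorem unit_q {c : F} (hc : c ^ (q + 1) = 1) : c ^ q = c⁻¹ := by
  rw [pow_succ] at hc
  exact eq_inv_of_mul_eq_one_left hc

theorem normalise {w : Fin 3 → F} (hw : hh q w w ≠ 0) : ∃ l : F, l ≠ 0 ∧ hh q (l • w) (l • w) = 1 := by
  obtain ⟨t, ht⟩ := CfsgLib.HermCount.exists_norm hF (inv_ne_zero hw)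
    (by rw [inv_pow, CfsgLib.HermCount.herm_fixed hF])
  refine ⟨t, t.ne_zero, ?_⟩
  rw [hh_smul_left hF, hh_smul_right hF, ← mul_assoc, ← pow_succ', ht, inv_mul_cancel₀ hw]

theorem orth_eig {x : GL (Fin 3) F} (hx : x ∈ Cfsg.GU 3 F q) {u v : Fin 3 → F} {c e : F}
    (he : e ^ (q + 1) = 1) (hu : x.1 *ᵥ u = c • u) (hv : x.1 *ᵥ v = e • v) (hne : c ≠ e) : hh q u v = 0 := by
  have h : hh q (x.1 *ᵥ u) (x.1 *ᵥ v) = hh q u v := hx u v
  rw [hu, hv, hh_smul_left hF, hh_smul_right hF, unit_q hF he, ← mul_assoc] at h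
  by_contra h0
  have : c * e⁻¹ = 1 := mul_right_cancel₀ h0 (by rw [one_mul]; exact h)
  exact hne (mul_inv_eq_one₀ (fun h => by rw [h] at he; simp at he) |>.mp this)

theorem orth_pres {x : GL (Fin 3) F} (hx : x ∈ Cfsg.GU 3 F q) {u : Fin 3 → F} {e : F}
    (he : e ^ (q + 1) = 1) (hu : x.1 *ᵥ u = e • u) {w : Fin 3 → F} (hw : hh q w u = 0) :
    hh q (x.1 *ᵥ w) u = 0 := by
  have h : hh q (x.1 *ᵥ w) (x.1 *ᵥ u) = hh q w u := hx w u
  rw [hu, hh_smul_right hF, hw] at h
  refine (mul_eq_zero.mp h).resolve_left (pow_ne_zero _ ?_)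
  rintro rfl
  simp at he

theorem next_vec {x : GL (Fin 3) F} (hx : x ∈ Cfsg.GU 3 F q) {k : ℕ} (hk : (k : F) ≠ 0) {η ζ : F}
    (hη : η ^ (q + 1) = 1) (hζq : ζ ^ (q + 1) = 1) (hζ : IsPrimitiveRoot ζ k)
    (hX : (x : Matrix (Fin 3) (Fin 3) F) ^ k = (η ^ k) • 1) {m : ℕ} (hm : ((3 : F) - m) ≠ 0)
    (u : Fin m → Fin 3 → F) (e : Fin m → F) (he : ∀ l, e l ^ (q + 1) = 1) (hue : ∀ l, x.1 *ᵥ u l = e l • u l)
    (hun : ∀ l l', hh q (u l) (u l') = if l = l' then 1 else 0) :
    ∃ (v : Fin 3 → F) (c : F), c ^ (q + 1) = 1 ∧ x.1 *ᵥ v = c • v ∧ hh q v v = 1 ∧ ∀ l, hh q v (u l) = 0 := by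
  classical
  have hq := (CfsgLib.UnitaryBasic.frob_exists hF).1
  let e' : Fin 3 → Fin 3 → F := fun j => Pi.single j 1
  let w : Fin 3 → Fin 3 → F := fun j => e' j - ∑ l, hh q (e' j) (u l) • u l
  have hej : ∀ (j : Fin 3) (v : Fin 3 → F), hh q v (e' j) = v j := fun j v =>
    CfsgLib.UnitaryOrder.herm_single_right hF v j
  have hsub : ∀ a b z : Fin 3 → F, hh q (a - b) z = hh q a z - hh q b z := fun a b z => by
    rw [sub_eq_add_neg, hh_add_left hF, ← neg_one_smul F b, hh_smul_left hF]; ring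
  have hw : ∀ j l, hh q (w j) (u l) = 0 := by
    intro j l
    rw [hsub, hh_sum_left hF]
    simp only [hh_smul_left hF, hun, mul_ite, mul_one, mul_zero, Finset.sum_ite_eq', Finset.mem_univ, if_true,
      sub_self]
  have hww : ∀ j, hh q (w j) (w j) = hh q (w j) (e' j) := by
    intro j
    have hwdef : w j = e' j - ∑ l, hh q (e' j) (u l) • u l := rfl
    have h1 : hh q (w j) (∑ l, hh q (e' j) (u l) • u l) = 0 := by
      rw [hh_sum_right hF]
      exact Finset.sum_eq_zero fun l _ => by rw [hh_smul_right hF, hw, mul_zero]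
    have h2 : hh q (w j) (w j) + hh q (w j) (∑ l, hh q (e' j) (u l) • u l) = hh q (w j) (e' j) := by
      obtain ⟨-, σ, hσ⟩ := CfsgLib.UnitaryBasic.frob_exists hF
      have e1 := hh_swap hF (e' j) (w j)
      rw [← hh_swap hF (w j) (w j), ← hh_swap hF (∑ l, hh q (e' j) (u l) • u l) (w j), ← hσ, ← hσ, ← map_add,
        ← hh_add_left hF, show w j + (∑ l, hh q (e' j) (u l) • u l) = e' j by rw [hwdef, sub_add_cancel], hσ, e1]
    rw [← h2, h1, add_zero]
  have htot : ∑ j, hh q (w j) (w j) = (3 : F) - m := by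
    simp only [hww, hej]
    have hwj : ∀ j, w j j = 1 - ∑ l, hh q (e' j) (u l) * u l j := fun j => by
      simp [w, e', Finset.sum_apply]
    simp only [hwj, Finset.sum_sub_distrib]
    rw [Finset.sum_comm]
    have : ∀ l, ∑ j, hh q (e' j) (u l) * u l j = 1 := by
      intro l
      have h1 := hun l l
      rw [if_pos rfl] at h1
      rw [← h1]
      exact Finset.sum_congr rfl fun j _ => by rw [← hh_swap hF (u l) (e' j), hej, mul_comm]
    simp [this]
  obtain ⟨j, -, hj⟩ := Finset.exists_ne_zero_of_sum_ne_zero (htot ▸ hm : ∑ j, hh q (w j) (w j) ≠ 0)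
  set X := (x : Matrix (Fin 3) (Fin 3) F) with hXdef
  have hk0 : k ≠ 0 := fun h => hk (by simp [h])
  let c : ℕ → F := fun i => η * ζ ^ i
  have hcq : ∀ i, c i ^ (q + 1) = 1 := fun i => by
    rw [mul_pow, hη, ← pow_mul, mul_comm i, pow_mul, hζq, one_pow, one_mul]
  have hc0 : ∀ i, c i ≠ 0 := fun i h => by have := hcq i; rw [h] at this; simp at this
  have heig : ∀ i, X *ᵥ proj X k (c i) (w j) = c i • proj X k (c i) (w j) := fun i => by
    refine mulVec_proj (hc0 i) ?_ _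
    rw [hX, mul_pow, ← pow_mul, mul_comm i, pow_mul, hζ.pow_eq_one, one_pow, mul_one]
  have horth : ∀ i l, hh q (proj X k (c i) (w j)) (u l) = 0 := by
    intro i l
    unfold proj
    rw [hh_smul_left hF, hh_sum_left hF, Finset.sum_eq_zero, mul_zero]
    intro n hn
    clear hn
    rw [hh_smul_left hF]
    suffices h : hh q ((X ^ n) *ᵥ w j) (u l) = 0 by rw [h, mul_zero]
    induction n with
    | zero => rw [pow_zero, one_mulVec]; exact hw j l
    | succ n ih => rw [pow_succ', ← mulVec_mulVec]; exact orth_pres hF hx (he l) (hue l) ih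
  obtain ⟨i, hi⟩ : ∃ i, hh q (proj X k (c i) (w j)) (proj X k (c i) (w j)) ≠ 0 := by
    by_contra hcon
    push Not at hcon
    apply hj
    conv_lhs => rw [← sum_proj (x := X) hk η hζ (w j)]
    rw [hh_sum_left hF]
    refine Finset.sum_eq_zero fun i hi => ?_
    rw [hh_sum_right hF]
    refine Finset.sum_eq_zero fun i' hi' => ?_
    rcases eq_or_ne i i' with rfl | hii
    · exact hcon i
    · refine orth_eig hF hx (hcq i') (heig i) (heig i') fun h => hii ?_
      exact hζ.pow_inj (Finset.mem_range.mp hi) (Finset.mem_range.mp hi')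
        (mul_left_cancel₀ (fun h0 => by rw [h0] at hη; simp at hη) h)
  obtain ⟨t, -, ht⟩ := normalise hF hi
  exact ⟨t • proj X k (c i) (w j), c i, hcq i, by rw [mulVec_smul, heig, smul_comm], ht,
    fun l => by rw [hh_smul_left hF, horth, mul_zero]⟩

/-- Matrix with given orthonormal columns. -/
theorem unitary_of_cols (v : Fin 3 → Fin 3 → F) (h : ∀ i j, hh q (v i) (v j) = if i = j then 1 else 0) :
    ∃ g : GL (Fin 3) F, g ∈ Cfsg.GU 3 F q ∧ ∀ i j, (g : Matrix (Fin 3) (Fin 3) F) i j = v j i := by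
  classical
  let M : Matrix (Fin 3) (Fin 3) F := Matrix.of fun i j => v j i
  have hM : ∀ c, M *ᵥ c = ∑ j, c j • v j := fun c => by
    funext i; simp [M, Matrix.mulVec, dotProduct, Finset.sum_apply, mul_comm]
  have hpres : ∀ a b, hh q (M *ᵥ a) (M *ᵥ b) = hh q a b := by
    intro a b
    rw [hM, hM, hh_sum_left hF]
    show _ = ∑ i, a i * b i ^ q
    refine Finset.sum_congr rfl fun i _ => ?_
    rw [hh_smul_left hF, hh_sum_right hF, Finset.sum_eq_single i]
    · rw [hh_smul_right hF, h, if_pos rfl, mul_one]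
    · intro l _ hl
      rw [hh_smul_right hF, h, if_neg (Ne.symm hl), mul_zero]
    · simp
  have hdet : M.det ≠ 0 := by
    intro h0
    obtain ⟨c, hc, hc0⟩ := Matrix.exists_mulVec_eq_zero_iff.mpr h0
    apply hc
    funext j
    have := hpres c (Pi.single j 1)
    rw [hc0, show hh q c (Pi.single j 1) = c j from CfsgLib.UnitaryOrder.herm_single_right hF c j] at this
    rw [← this]
    simp [hh, Cfsg.hermForm]
  exact ⟨GeneralLinearGroup.mkOfDetNeZero M hdet, fun a b => hpres a b, fun i j => rfl⟩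

theorem ambient_GU (h3 : (3 : F) ≠ 0) (h2 : (2 : F) ≠ 0) (hodd : Even (q + 1)) (hq3 : 3 ∣ q + 1) :
    Ambient (Cfsg.GU 3 F q) (powMonoidHom (q + 1) : Fˣ →* Fˣ).ker := by
  classical
  refine ⟨fun g hg => CfsgLib.UnitaryBasic.det_pow hF hg,
    fun d hd => CfsgLib.UnitaryBasic.dgl_mem d hd,
    fun σ => ⟨pgl σ, fun u v => CfsgLib.UnitaryBasic.perm_preserves _ u v, pgl_conj σ⟩, ?_, ?_⟩
  · intro u v
    show Cfsg.hermForm 3 F q ((sMat : GL (Fin 3) F).1 *ᵥ u) ((sMat : GL (Fin 3) F).1 *ᵥ v) = _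
    have hn : ∀ z : F, (-z) ^ q = -z ^ q := fun z => by
      obtain ⟨-, σ, hσ⟩ := CfsgLib.UnitaryBasic.frob_exists hF
      rw [← hσ, map_neg, hσ]
    simp [Cfsg.hermForm, sMat, Matrix.mulVec, dotProduct, Fin.sum_univ_three, hn]
    ring
  intro x hx k η ζ hk hη hζ hX
  have hk0 : (k : F) ≠ 0 := by rcases hk with rfl | rfl <;> simpa using ‹_›
  have hη' : (η : F) ^ (q + 1) = 1 := by
    have := congrArg Units.val (MonoidHom.mem_ker.mp hη)
    simpa using this
  have hζq : ζ ^ (q + 1) = 1 := by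
    rw [hζ.pow_eq_one_iff_dvd]
    rcases hk with rfl | rfl
    · exact even_iff_two_dvd.mp hodd
    · exact hq3
  obtain ⟨v0, c0, hc0, hv0, hn0, -⟩ := next_vec hF hx hk0 hη' hζq hζ hX (m := 0) (by simpa using h3)
    Fin.elim0 Fin.elim0 (fun l => l.elim0) (fun l => l.elim0) (fun l => l.elim0)
  obtain ⟨v1, c1, hc1, hv1, hn1, ho1⟩ := next_vec hF hx hk0 hη' hζq hζ hX (m := 1)
    (by norm_num; exact h2) ![v0] ![c0] (fun l => by fin_cases l; simpa using hc0)
    (fun l => by fin_cases l; simpa using hv0) (fun l l' => by fin_cases l; fin_cases l'; simpa using hn0)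
  have h10 : hh q v1 v0 = 0 := by simpa using ho1 0
  have h01 : hh q v0 v1 = 0 := hh_swap_zero hF h10
  obtain ⟨v2, c2, hc2, hv2, hn2, ho2⟩ := next_vec hF hx hk0 hη' hζq hζ hX (m := 2)
    (by norm_num) ![v0, v1] ![c0, c1] (fun l => by fin_cases l <;> simp [hc0, hc1])
    (fun l => by fin_cases l <;> simp [hv0, hv1])
    (fun l l' => by fin_cases l <;> fin_cases l' <;> simp [hn0, hn1, h01, h10])
  have h20 : hh q v2 v0 = 0 := by simpa using ho2 0
  have h21 : hh q v2 v1 = 0 := by simpa using ho2 1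
  obtain ⟨g, hg, hgc⟩ := unitary_of_cols hF ![v0, v1, v2] (fun i j => by
    fin_cases i <;> fin_cases j <;>
      simp [hn0, hn1, hn2, h01, h10, h20, h21, hh_swap_zero hF h20, hh_swap_zero hF h21])
  have hne : ∀ c : F, c ^ (q + 1) = 1 → c ≠ 0 := fun c h h' => by rw [h'] at h; simp at h
  let d : Fin 3 → Fˣ := ![Units.mk0 c0 (hne _ hc0), Units.mk0 c1 (hne _ hc1), Units.mk0 c2 (hne _ hc2)]
  have hgx : g⁻¹ * x * g = dg d := Units.ext (conj_eq_of_cols (by
    have hd : ∀ j, x.1 *ᵥ ![v0, v1, v2] j = (d j : F) • ![v0, v1, v2] j := by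
      intro j; fin_cases j <;> simp [d, hv0, hv1, hv2]
    ext i j
    rw [coe_dg, mul_diagonal, hgc, Matrix.mul_apply]
    have := congrFun (hd j) i
    simp only [Matrix.mulVec, dotProduct, Pi.smul_apply, smul_eq_mul] at this
    rw [mul_comm (![v0, v1, v2] j i), ← this]
    exact Finset.sum_congr rfl fun l _ => by rw [hgc]))
  refine ⟨g, hg, d, fun i => ⟨?_, eig_cube hgx hX i⟩, hgx⟩
  rw [MonoidHom.mem_ker, powMonoidHom_apply]
  refine Units.ext ?_
  rw [Units.val_pow_eq_pow_val, Units.val_one]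
  fin_cases i <;> simp [d, hc0, hc1, hc2]

theorem exists_std_unitary (h3 : (3 : F) ≠ 0) {ζ : F} (hζ : IsPrimitiveRoot ζ 3) (hq3 : 3 ∣ q + 1)
    (R : Subgroup (GL (Fin 3) F)) (hRU : R ≤ Cfsg.GU 3 F q)
    (hR : Nat.card R = 27) (hRe : Monoid.exponent R = 3) (hRna : ¬ IsMulCommutative R) :
    ∃ g ω, g ∈ Cfsg.GU 3 F q ∧ IsStd R g ω := by
  classical
  obtain ⟨a, b, ω, v, haR, hbR, hω, hgen, hv0, ha, hb⟩ := exists_vectors h3 hζ R hR hRe hRna
  have hdet := det_cols_ne_zero h3 hω hv0 ha hb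
  have hq := (CfsgLib.UnitaryBasic.frob_exists hF).1
  have hω1 : ω ≠ 1 := hω.ne_one (by norm_num)
  have hωq : ω ^ (q + 1) = 1 := (hω.pow_eq_one_iff_dvd _).mpr hq3
  let lam : Fin 3 → F := ![1, ω, ω ^ 2]
  have hlq : ∀ i, lam i ^ (q + 1) = 1 := by
    intro i
    fin_cases i
    · simp [lam]
    · simpa [lam] using hωq
    · show (ω ^ 2) ^ (q + 1) = 1
      rw [← pow_mul, mul_comm, pow_mul, hωq, one_pow]
  have hlinj : ∀ i j, lam i = lam j → i = j := by
    intro i j h
    have e : ∀ i : Fin 3, lam i = ω ^ (i : ℕ) := fun i => by fin_cases i <;> simp [lam]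
    rw [e, e] at h
    exact Fin.ext (hω.pow_inj i.2 j.2 h)
  have horth : ∀ i j, i ≠ j → hh q (v i) (v j) = 0 := fun i j hij =>
    orth_eig hF (hRU haR) (hlq j) (ha i) (ha j) fun h => hij (hlinj i j h)
  have hnorm : ∀ i, hh q (v i) (v i) = hh q (v 0) (v 0) := by
    have hstep : ∀ i, hh q (v (i + 1)) (v (i + 1)) = hh q (v i) (v i) := fun i => by
      rw [← hb]; exact hRU hbR (v i) (v i)
    intro i
    fin_cases i
    · rfl
    · exact hstep 0
    · exact (hstep 1).trans (hstep 0)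
  have hN : hh q (v 0) (v 0) ≠ 0 := by
    intro h0
    have hsurj : Function.Surjective (Matrix.of fun i j => v j i).mulVec :=
      Matrix.mulVec_surjective_iff_isUnit.mpr ((Matrix.isUnit_iff_isUnit_det _).mpr (isUnit_iff_ne_zero.mpr hdet))
    obtain ⟨c, hc⟩ := hsurj (Pi.single 0 1)
    have e : (Matrix.of fun i j => v j i) *ᵥ c = ∑ j, c j • v j := by
      funext i; simp [Matrix.mulVec, dotProduct, Finset.sum_apply, mul_comm]
    have h1 : hh q (Pi.single (0 : Fin 3) (1 : F)) (Pi.single (0 : Fin 3) (1 : F)) = 1 := by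
      rw [hh, CfsgLib.UnitaryOrder.herm_single_right hF]; simp
    rw [← hc, e, hh_sum_left hF] at h1
    apply one_ne_zero (α := F)
    rw [← h1]
    refine Finset.sum_eq_zero fun i _ => ?_
    rw [hh_smul_left hF, hh_sum_right hF, Finset.sum_eq_zero, mul_zero]
    intro j _
    rw [hh_smul_right hF]
    rcases eq_or_ne i j with rfl | hij
    · rw [hnorm, h0, mul_zero]
    · rw [horth i j hij, mul_zero]
  obtain ⟨l, -, hl⟩ := normalise hF hN
  obtain ⟨g, hg, hgc⟩ := unitary_of_cols hF (fun i => l • v i) (fun i j => by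
    rcases eq_or_ne i j with rfl | hij
    · rw [if_pos rfl, hh_smul_left hF, hh_smul_right hF, hnorm, ← hl, hh_smul_left hF, hh_smul_right hF]
    · rw [if_neg hij, hh_smul_left hF, hh_smul_right hF, horth i j hij, mul_zero, mul_zero])
  exact ⟨g, ω, hg, isStd_of_vectors hω hgen (fun i => by rw [mulVec_smul, ha, smul_comm])
    (fun i => by rw [mulVec_smul, hb]) g hgc⟩

end

end CfsgLib.Heis27
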